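import Cfsg.Agent.Lib.AltModule.P5.M5.Def

/-!
Checks for piece 2 of the certificate.
-/

namespace Cfsg.Agent.AltMod.P5.M5

theorem fix2_1 : mdl.fixOk 5 ((subs.getD 26 ([], [])).1) v2 k2 0x20002000300000001000000030002000100030000000400040000000300040003000400010002000000030003000200030004000300020003000000000002000300010003000100020004000400030001000300020003000100010003000300000003000400020001000100010000000000000001000200000002000200000001000200010000000200040004000000020001000300020002000000020002000100000002000000030003000300030002000000010001000000030002000000030003000400030004000400040003000100010001000000000002000200000001000300010002000400010003000000040000000200000000000200020004000000040000000300000003000400020001000100010004000000040000000300020001000200010003000400010002000200020002000200030003000300010004000000010003000200040003000100030001000000000000000000010004000400020002000100020001000300010002000100020000000200010002000200010001000000000001000000030004000100030003000200000000000300000004000200020003000000040003000400000000000100000000000300030003000400020000000100000004000000030002000200020000000400030004000200000002000100030000000000030001000200010000000100030003000200000003000400010003000000010002000000000004000100000003000000010004000300030003000300010000000000020004000300030002000400010003000300010000000400000003000400010004000300030000000100000001000000040004000000030004000300030003000300020004000400030003000100010001000200000002000300010004000300000003000100040000000100010001000000020001000000030004000100030000000000020001000300040003000400000000000300020004000000000003000400010000000100010003000400000001000200020000000200040002000000020000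 = true := by
  decide +kernel

theorem fix2_2 : mdl.fixOk 5 ((subs.getD 26 ([], [])).2) v2 k2 0x100000002000000010003000100000003000300020003000100040002000000020001000100000003000200040000000400040000000400000003000000020001000200040000000000040001000100030002000100000003000400000003000200020004000300000002000200030001000100030001000300010001000000040001000000000002000000010004000300000003000200010003000100040001000000030002000200040000000100000001000300040003000300020004000100030003000400030004000200000002000100020004000100010001000400040003000200040004000200030001000000010001000300020000000400000002000000020002000100000002000100040002000000010001000100040000000000040003000400040000000000010003000100000001000400030000000200030001000300010003000000010003000400010000000200020004000300040000000100030004000100000001000000000002000400030003000300000000000400020002000300040000000100030002000000000004000400010000000200020002000400040002000300010004000300010001000300000002000400030001000300020001000200040001000200020004000000040001000100010003000100010000000000010003000200040003000400000003000200040001000400010002000300040001000300040000000400040000000200020003000200020001000300040002000300000000000400000002000200020003000400020000000000030002000200020001000100030001000400040004000300030002000400040000000100030000000200000004000400030001000400000002000300010003000300010001000000010002000100040001000300020000000100030004000300010001000200010003000400000001000200020003000200010000000100020000000000040001000400020004000300030002000400040001000200040003000000000004000000030003000300000003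 = true := by
  decide +kernel

theorem spin2_0 : mdl.spinOk 5 v2 e2 0 50 = true := by decide +kernel

theorem spin2_1 : mdl.spinOk 5 v2 e2 50 50 = true := by decide +kernel

theorem spin2_2 : mdl.spinOk 5 v2 e2 100 50 = true := by decide +kernel

theorem spin2_3 : mdl.spinOk 5 v2 e2 150 15 = true := by decide +kernel

theorem spin2_len : e2.length = 165 := by decide +kernel

theorem spin2 : ∀ i < (e2.length + 49) / 50,
    mdl.spinOk 5 v2 e2 (50 * i) (min 50 (e2.length - 50 * i)) = true := by
  rw [spin2_len]
  intro i hi
  interval_cases i
  · exact spin2_0
  · exact spin2_1
  · exact spin2_2
  · exact spin2_3

end Cfsg.Agent.AltMod.P5.M5
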